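import Cfsg.Agent.H285.Ccp.HNMat

/-!
# An unfolding lemma is written here once (helper687)
-/

namespace Cfsg.Agent.H687.EqD

theorem keep_EvFb : True := by
  have _h := @Cfsg.Agent.H285.HN3.evF.eq_def (Multiplicative ℤ) _
  trivial

end Cfsg.Agent.H687.EqD
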